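import Mathlib
import Cfsg.Prelude.Def_CaseTheorems
import Cfsg.Agent.Lib.Cores
import Cfsg.Agent.Lib.KleinOrder
import Cfsg.Agent.Lib.NormalAbelian
import Cfsg.Agent.PLocal.CoprimeLift
import Cfsg.Agent.SignalizersComponents.ComponentExists
import Cfsg.Agent.SignalizersComponents.Components
import Cfsg.Agent.SignalizersComponents.CompBasic
import Cfsg.Agent.Involutions.CommonInvolution
import Cfsg.Agent.Involutions.PairCount
import Cfsg.Agent.S0230
import Cfsg.Agent.FastGrp
import Cfsg.Agent.Prune
set_option linter.all false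
prune_inst 0x7f00000000000000000000000000000000000000000000000000000000000000000000000000000000000000000000000000000000000000000000000000000000000000000000000000000000000000003fffffffffffffffffffffffffffbeffbdffffffff
open scoped Cfsg.Agent.FastGrp

-- part: H131/OneClass
section
/-!
# The cube bound `|G| < |C_G(t)|³` (helper131; the double counting is due to helper240)

`card_inv_lt`: if all involutions of `L` have centralizers of the same order `c` and are not all conjugate,
then `L` has less than `c²` involutions.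

`cube`: a finite group of 2-rank at least 2 has an involution `t` with `|G| < |C_G(t)|³`, given that
the non-abelian simple groups of even order with only one class of involutions have this property.
-/

set_option autoImplicit false

namespace Cfsg.Agent.H131.OneClass

open Subgroup

/-- all involutions are conjugate -/
def OneC (G : Type*) [Group G] : Prop := ∀ s t : G, orderOf s = 2 → orderOf t = 2 → IsConj s t

/-- `|G| < |C_G(t)|³` for all involutions `t` -/
def Cube (G : Type*) [Group G] : Prop :=
  ∀ t : G, orderOf t = 2 → Nat.card G < Nat.card (centralizer ({t} : Set G)) ^ 3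

theorem card_centralizer_equiv {G H : Type*} [Group G] [Group H] (e : G ≃* H) (t : G) :
    Nat.card (centralizer ({e t} : Set H)) = Nat.card (centralizer ({t} : Set G)) := by
  refine Nat.card_congr ⟨fun x => ⟨e.symm x, ?_⟩, fun x => ⟨e x, ?_⟩, fun x => ?_, fun x => ?_⟩
  · rw [mem_centralizer_singleton_iff]
    have := mem_centralizer_singleton_iff.1 x.2
    apply e.injective
    rw [map_mul, map_mul, e.apply_symm_apply]; exact this
  · rw [mem_centralizer_singleton_iff]
    have := mem_centralizer_singleton_iff.1 x.2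
    rw [← map_mul, this, map_mul]
  · exact Subtype.ext (e.apply_symm_apply _)
  · exact Subtype.ext (e.symm_apply_apply _)

theorem card_centralizer_conj {G : Type*} [Group G] {s t : G} (h : IsConj s t) :
    Nat.card (centralizer ({t} : Set G)) = Nat.card (centralizer ({s} : Set G)) := by
  obtain ⟨g, hg⟩ := isConj_iff.1 h
  have := card_centralizer_equiv (MulAut.conj g) s
  rwa [MulAut.conj_apply, hg] at this

theorem OneC.congr {G H : Type*} [Group G] [Group H] (e : G ≃* H) (h : OneC G) : OneC H := by
  intro s t hs ht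
  have h1 := h (e.symm s) (e.symm t) (by rw [MulEquiv.orderOf_eq, hs]) (by rw [MulEquiv.orderOf_eq, ht])
  obtain ⟨g, hg⟩ := isConj_iff.1 h1
  exact isConj_iff.2 ⟨e g, by
    have := congrArg e hg
    simpa only [_root_.map_mul, _root_.MulEquiv.apply_symm_apply, _root_.map_inv] using this⟩

theorem Cube.congr {G H : Type*} [Group G] [Group H] (e : G ≃* H) (h : Cube G) : Cube H := by
  intro t ht
  have h1 := h (e.symm t) (by rw [MulEquiv.orderOf_eq, ht])
  rwa [card_centralizer_equiv e.symm t, Nat.card_congr e.toEquiv] at h1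

/-- one involution is enough -/
theorem cube_of_one {G : Type*} [Group G] (h1 : OneC G) {t : G} (ht : orderOf t = 2)
    (h : Nat.card G < Nat.card (centralizer ({t} : Set G)) ^ 3) : Cube G := by
  intro s hs
  rwa [card_centralizer_conj (h1 t s ht hs)]

theorem one_not_inv {G : Type*} [Group G] {t : G} (ht : orderOf t = 2) : t ≠ 1 := by
  rintro rfl; simp at ht

theorem inv_sq {G : Type*} [Group G] {t : G} (ht : orderOf t = 2) : t * t = 1 := by
  rw [← sq, ← ht, pow_orderOf_eq_one]

theorem inv_of {G : Type*} [Group G] {t : G} (h1 : t ≠ 1) (h : t * t = 1) : orderOf t = 2 :=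
  orderOf_eq_prime (by rw [sq, h]) h1

/-! ### Counting -/

section count

variable {L : Type*} [Group L]

/-- pairs of conjugate elements -/
theorem pairs_same [DecidableEq L] [DecidableEq (ConjClasses L)] (T S : Finset L) (hS : S ⊆ T) :
    ((S ×ˢ S).filter (fun p => ConjClasses.mk p.1 = ConjClasses.mk p.2)).card =
      ∑ κ ∈ T.image ConjClasses.mk, (S.filter (fun x => ConjClasses.mk x = κ)).card ^ 2 := by
  rw [Finset.card_eq_sum_card_fiberwise (f := fun p : L × L => ConjClasses.mk p.1)
    (t := T.image ConjClasses.mk)]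
  · refine Finset.sum_congr rfl fun κ _ => ?_
    rw [sq, ← Finset.card_product]
    congr 1
    ext ⟨x, y⟩
    simp only [Finset.mem_filter, Finset.mem_product]
    constructor
    · rintro ⟨⟨⟨h1, h2⟩, h3⟩, h4⟩; exact ⟨⟨h1, h4⟩, h2, h3 ▸ h4⟩
    · rintro ⟨⟨h1, h4⟩, h2, h3⟩; exact ⟨⟨⟨h1, h2⟩, h4.trans h3.symm⟩, h4⟩
  · intro p hp
    simp only [Finset.coe_filter, Finset.mem_product, Set.mem_ofPred_eq] at hp
    simp only [Finset.coe_image, Set.mem_image, Finset.mem_coe]
    exact ⟨p.1, hS hp.1.1, rfl⟩

theorem card_fib [DecidableEq L] [DecidableEq (ConjClasses L)] (T S : Finset L) (hS : S ⊆ T) :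
    S.card = ∑ κ ∈ T.image ConjClasses.mk, (S.filter (fun x => ConjClasses.mk x = κ)).card := by
  apply Finset.card_eq_sum_card_fiberwise
  intro x hx
  simp only [Finset.coe_image, Set.mem_image, Finset.mem_coe]
  exact ⟨x, hS hx, rfl⟩

/-- the number of pairs of non-conjugate elements, upper bound -/
theorem pairs_le [DecidableEq L] [DecidableEq (ConjClasses L)] (T S : Finset L) (hS : S ⊆ T) :
    ((T.image ConjClasses.mk).card : ℤ) *
      ((S ×ˢ S).filter (fun p => ConjClasses.mk p.1 ≠ ConjClasses.mk p.2)).card ≤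
      (((T.image ConjClasses.mk).card : ℤ) - 1) * (S.card : ℤ) ^ 2 := by
  have h1 := Finset.card_filter_add_card_filter_not (s := S ×ˢ S)
    (fun p : L × L => ConjClasses.mk p.1 = ConjClasses.mk p.2)
  rw [pairs_same T S hS, Finset.card_product] at h1
  have h2 := sq_sum_le_card_mul_sum_sq (s := T.image ConjClasses.mk)
    (f := fun κ => ((S.filter (fun x => ConjClasses.mk x = κ)).card : ℤ))
  have h3 : (S.card : ℤ) = ∑ κ ∈ T.image ConjClasses.mk, ((S.filter (fun x => ConjClasses.mk x = κ)).card : ℤ) := by
    exact_mod_cast card_fib T S hS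
  rw [← h3] at h2
  have h4 : (∑ κ ∈ T.image ConjClasses.mk, ((S.filter (fun x => ConjClasses.mk x = κ)).card : ℤ) ^ 2) +
      (((S ×ˢ S).filter (fun p => ConjClasses.mk p.1 ≠ ConjClasses.mk p.2)).card : ℤ) = (S.card : ℤ) * S.card := by
    exact_mod_cast h1
  nlinarith only [h1, h2]

/-- the number of pairs of non-conjugate elements, if all classes have the same size -/
theorem pairs_eq [DecidableEq L] [DecidableEq (ConjClasses L)] (T : Finset L) (n : ℕ)
    (hn : ∀ κ ∈ T.image ConjClasses.mk, (T.filter (fun x => ConjClasses.mk x = κ)).card = n) :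
    ((T.image ConjClasses.mk).card : ℤ) *
      ((T ×ˢ T).filter (fun p => ConjClasses.mk p.1 ≠ ConjClasses.mk p.2)).card =
      (((T.image ConjClasses.mk).card : ℤ) - 1) * (T.card : ℤ) ^ 2 := by
  have h1 := Finset.card_filter_add_card_filter_not (s := T ×ˢ T)
    (fun p : L × L => ConjClasses.mk p.1 = ConjClasses.mk p.2)
  rw [pairs_same T T le_rfl, Finset.card_product] at h1
  have h2 := card_fib T T le_rfl
  rw [Finset.sum_congr rfl hn, Finset.sum_const, smul_eq_mul] at h2
  rw [Finset.sum_congr rfl (fun κ hκ => by rw [hn κ hκ] : ∀ κ ∈ T.image ConjClasses.mk,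
    (T.filter (fun x => ConjClasses.mk x = κ)).card ^ 2 = n ^ 2), Finset.sum_const, smul_eq_mul] at h1
  set k := (T.image ConjClasses.mk).card
  set P := ((T ×ˢ T).filter (fun p => ConjClasses.mk p.1 ≠ ConjClasses.mk p.2)).card with hP
  have h3 : (k : ℤ) * n ^ 2 + P = (T.card : ℤ) * T.card := by exact_mod_cast h1
  have h4 : (T.card : ℤ) = k * n := by exact_mod_cast h2
  rw [h4] at h3 ⊢
  nlinarith only [h3]

/-- **The count.** If all involutions of `L` have centralizers of order `c` and two of them are not conjugate, `L` has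
less than `c ^ 2` involutions. -/
theorem card_inv_lt [Finite L] {c : ℕ}
    (hc : ∀ t : L, orderOf t = 2 → Nat.card (centralizer ({t} : Set L)) = c)
    {s t : L} (hs : orderOf s = 2) (ht : orderOf t = 2) (hnc : ¬ IsConj s t) :
    Nat.card {x : L // orderOf x = 2} < c ^ 2 := by
  classical
  have := Fintype.ofFinite L
  set T : Finset L := Finset.univ.filter (fun x => orderOf x = 2) with hT
  have hTmem : ∀ x, x ∈ T ↔ orderOf x = 2 := fun x => by simp [hT]
  have hcard : Nat.card {x : L // orderOf x = 2} = T.card := by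
    rw [Nat.card_eq_fintype_card, Fintype.card_subtype]
  clear_value T
  have hc0 : 0 < c := by rw [← hc t ht]; exact Nat.card_pos
  -- classes have the same size
  have hcl : ∀ κ ∈ T.image ConjClasses.mk, (T.filter (fun x => ConjClasses.mk x = κ)).card = Nat.card L / c := by
    intro κ hκ
    obtain ⟨x, hx, rfl⟩ := Finset.mem_image.1 hκ
    have h1 := Cfsg.Agent.Involutions.PairCount.card_class_mul_card_centralizer x
    rw [hc x ((hTmem x).1 hx)] at h1
    have h2 : (T.filter (fun y => ConjClasses.mk y = ConjClasses.mk x)).card = Nat.card {u : L // IsConj x u} := by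
      rw [Nat.card_eq_fintype_card, Fintype.card_subtype]
      congr 1
      ext y
      simp only [Finset.mem_filter, hTmem, Finset.mem_univ, true_and, ConjClasses.mk_eq_mk_iff_isConj]
      constructor
      · rintro ⟨-, h⟩; exact h.symm
      · intro h
        refine ⟨?_, h.symm⟩
        obtain ⟨g, hg⟩ := isConj_iff.1 h
        rw [← hg]
        have := MulEquiv.orderOf_eq (MulAut.conj g) x
        rw [MulAut.conj_apply] at this
        rw [this]; exact (hTmem x).1 hx
    rw [h2]
    exact (Nat.div_eq_of_eq_mul_left hc0 h1.symm).symm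
  have h1 := pairs_eq T _ hcl
  -- the number of classes
  have hk : 1 < (T.image ConjClasses.mk).card := by
    rw [Finset.one_lt_card]
    exact ⟨_, Finset.mem_image_of_mem _ ((hTmem s).2 hs), _, Finset.mem_image_of_mem _ ((hTmem t).2 ht),
      fun e => hnc (ConjClasses.mk_eq_mk_iff_isConj.1 e)⟩
  -- the pairs are covered
  have h2 : ((T ×ˢ T).filter (fun p => ConjClasses.mk p.1 ≠ ConjClasses.mk p.2)).card ≤
      ∑ z ∈ T, (((T.filter (fun x => Commute z x)) ×ˢ (T.filter (fun x => Commute z x))).filter
        (fun p => ConjClasses.mk p.1 ≠ ConjClasses.mk p.2)).card := by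
    refine le_trans (Finset.card_le_card ?_) Finset.card_biUnion_le
    rintro ⟨x, y⟩ hp
    rw [Finset.mem_filter, Finset.mem_product, hTmem, hTmem] at hp
    obtain ⟨⟨hx, hy⟩, hne⟩ := hp
    obtain ⟨z, hz, hzx, hzy, -⟩ := Cfsg.Agent.Involutions.CommonInvolution.exists_common_involution x y hx hy
      (fun h => hne (ConjClasses.mk_eq_mk_iff_isConj.2 h))
    rw [Finset.mem_biUnion]
    refine ⟨z, (hTmem z).2 hz, ?_⟩
    rw [Finset.mem_filter, Finset.mem_product, Finset.mem_filter, Finset.mem_filter]
    exact ⟨⟨⟨(hTmem x).2 hx, hzx⟩, (hTmem y).2 hy, hzy⟩, hne⟩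
  -- the number of involutions of a centralizer
  have h3 : ∀ z ∈ T, ((T.filter (fun x => Commute z x)).card : ℤ) ≤ (c : ℤ) - 1 := by
    intro z hz
    have h4 : (T.filter (fun x => Commute z x)).card < c := by
      have h6 : Nat.card (centralizer ({z} : Set L)) = (Finset.univ.filter (fun x : L => Commute z x)).card := by
        rw [Nat.card_eq_fintype_card]
        have : Fintype.card (centralizer ({z} : Set L)) = Fintype.card {x : L // Commute z x} := by
          apply Fintype.card_congr
          apply Equiv.subtypeEquivRight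
          intro x
          rw [mem_centralizer_singleton_iff]
          exact ⟨fun h => h.symm, fun h => h.symm⟩
        rw [this, Fintype.card_subtype]
      rw [← hc z ((hTmem z).1 hz), h6]
      apply Finset.card_lt_card
      rw [Finset.ssubset_iff_of_subset]
      · exact ⟨1, by simp, by simp [hTmem]⟩
      · intro x hx
        rw [Finset.mem_filter] at hx ⊢
        exact ⟨Finset.mem_univ _, hx.2⟩
    have h7 : (T.filter (fun x => Commute z x)).card + 1 ≤ c := h4
    have h8 : ((T.filter (fun x => Commute z x)).card : ℤ) + 1 ≤ c := by exact_mod_cast h7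
    linarith only [h4]
  have h9 : ∀ z ∈ T, ((T.image ConjClasses.mk).card : ℤ) *
      ((((T.filter (fun x => Commute z x)) ×ˢ (T.filter (fun x => Commute z x))).filter
        (fun p => ConjClasses.mk p.1 ≠ ConjClasses.mk p.2)).card : ℤ) ≤
      (((T.image ConjClasses.mk).card : ℤ) - 1) * ((c : ℤ) - 1) ^ 2 := by
    intro z hz
    refine (pairs_le T _ (Finset.filter_subset _ _)).trans ?_
    apply mul_le_mul_of_nonneg_left
    · exact pow_le_pow_left₀ (by (clear * -; positivity)) (h3 z hz) 2
    · have : (1 : ℤ) < (T.image ConjClasses.mk).card := by exact_mod_cast hk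
      linarith only [hk]
  have h10 : ((T.image ConjClasses.mk).card : ℤ) *
      ((T ×ˢ T).filter (fun p => ConjClasses.mk p.1 ≠ ConjClasses.mk p.2)).card ≤
      (T.card : ℤ) * ((((T.image ConjClasses.mk).card : ℤ) - 1) * ((c : ℤ) - 1) ^ 2) := by
    have h11 : (((T ×ˢ T).filter (fun p => ConjClasses.mk p.1 ≠ ConjClasses.mk p.2)).card : ℤ) ≤
      ∑ z ∈ T, ((((T.filter (fun x => Commute z x)) ×ˢ (T.filter (fun x => Commute z x))).filter
        (fun p => ConjClasses.mk p.1 ≠ ConjClasses.mk p.2)).card : ℤ) := by exact_mod_cast h2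
    calc _ ≤ ((T.image ConjClasses.mk).card : ℤ) * ∑ z ∈ T, ((((T.filter (fun x => Commute z x)) ×ˢ
          (T.filter (fun x => Commute z x))).filter
          (fun p => ConjClasses.mk p.1 ≠ ConjClasses.mk p.2)).card : ℤ) :=
            mul_le_mul_of_nonneg_left h11 (by (clear * - hk; positivity))
      _ = ∑ z ∈ T, ((T.image ConjClasses.mk).card : ℤ) * ((((T.filter (fun x => Commute z x)) ×ˢ
          (T.filter (fun x => Commute z x))).filter
          (fun p => ConjClasses.mk p.1 ≠ ConjClasses.mk p.2)).card : ℤ) := by rw [Finset.mul_sum]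
      _ ≤ ∑ _z ∈ T, ((((T.image ConjClasses.mk).card : ℤ) - 1) * ((c : ℤ) - 1) ^ 2) :=
            Finset.sum_le_sum h9
      _ = _ := by rw [Finset.sum_const, nsmul_eq_mul]
  rw [h1] at h10
  have hTpos : 0 < T.card := Finset.card_pos.2 ⟨t, (hTmem t).2 ht⟩
  have hk' : (0 : ℤ) < ((T.image ConjClasses.mk).card : ℤ) - 1 := by
    have : (1 : ℤ) < (T.image ConjClasses.mk).card := by exact_mod_cast hk
    linarith only [hk]
  have hT' : (0 : ℤ) < T.card := by exact_mod_cast hTpos
  have h12 : (T.card : ℤ) ≤ ((c : ℤ) - 1) ^ 2 := by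
    have h13 : ((((T.image ConjClasses.mk).card : ℤ) - 1) * T.card) * T.card ≤
        ((((T.image ConjClasses.mk).card : ℤ) - 1) * T.card) * ((c : ℤ) - 1) ^ 2 := by
      calc _ = (((T.image ConjClasses.mk).card : ℤ) - 1) * (T.card : ℤ) ^ 2 := by ring
        _ ≤ _ := h10
        _ = _ := by ring
    exact le_of_mul_le_mul_left h13 (mul_pos hk' hT')
  have h14 : ((c : ℤ) - 1) ^ 2 < (c : ℤ) ^ 2 := by
    have : (1 : ℤ) ≤ c := by exact_mod_cast hc0
    linarith only [hc0]
  rw [hcard]
  have h15 : (T.card : ℤ) < (c : ℤ) ^ 2 := lt_of_le_of_lt h12 h14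
  exact_mod_cast h15

end count

/-! ### Groups with one class of involutions -/

section frattini

variable {G : Type*} [Group G] [Finite G]

omit [Finite G] in
theorem card_mul_of_one (hone : OneC G) {t : G} (ht : orderOf t = 2) :
    Nat.card {x : G // orderOf x = 2} * Nat.card (centralizer ({t} : Set G)) = Nat.card G := by
  rw [← Cfsg.Agent.Involutions.PairCount.card_class_mul_card_centralizer t]
  congr 1
  apply Nat.card_congr
  apply Equiv.subtypeEquivRight
  intro x
  constructor
  · intro hx; exact hone t x ht hx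
  · intro h
    obtain ⟨g, hg⟩ := isConj_iff.1 h
    rw [← hg]
    have := MulEquiv.orderOf_eq (MulAut.conj g) t
    rw [MulAut.conj_apply] at this
    rw [this, ht]

/-- the bound from the number of involutions -/
theorem cube_of_card_inv (hone : OneC G) {t : G} (ht : orderOf t = 2)
    (h : Nat.card {x : G // orderOf x = 2} < Nat.card (centralizer ({t} : Set G)) ^ 2) :
    Nat.card G < Nat.card (centralizer ({t} : Set G)) ^ 3 := by
  rw [← card_mul_of_one hone ht, pow_succ]
  exact Nat.mul_lt_mul_of_pos_right h Nat.card_pos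

theorem exists_inv_of_even {H : Type*} [Group H] [Finite H] (h : Even (Nat.card H)) : ∃ t : H, orderOf t = 2 := by
  have : Fact (Nat.Prime 2) := ⟨Nat.prime_two⟩
  exact exists_prime_orderOf_dvd_card' 2 h.two_dvd

theorem inv_mem_of_one (hone : OneC G) (L : Subgroup G) [L.Normal] (he : Even (Nat.card L)) {t : G}
    (ht : orderOf t = 2) : t ∈ L := by
  obtain ⟨s, hs⟩ := exists_inv_of_even he
  obtain ⟨g, hg⟩ := isConj_iff.1 (hone (s : G) t (by rw [← hs]; exact Subgroup.orderOf_coe s) ht)
  rw [← hg]
  exact Normal.conj_mem inferInstance _ s.2 _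

/-- **Frattini**: the bound goes from a normal subgroup of even order to the group. -/
theorem cube_of_normal (hone : OneC G) (L : Subgroup G) [L.Normal] (he : Even (Nat.card L))
    (hL : OneC L → Cube L) : Cube G := by
  intro t ht
  have htL := inv_mem_of_one hone L he ht
  apply cube_of_card_inv hone ht
  set t' : L := ⟨t, htL⟩ with ht'
  have hot : orderOf t' = 2 := by rw [← ht]; exact (Subgroup.orderOf_coe t').symm
  have hbij : Nat.card {x : G // orderOf x = 2} = Nat.card {x : L // orderOf x = 2} :=
    Nat.card_congr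
      { toFun := fun x => ⟨⟨x.1, inv_mem_of_one hone L he x.2⟩, by rw [← Subgroup.orderOf_coe]; exact x.2⟩
        invFun := fun x => ⟨x.1, by rw [Subgroup.orderOf_coe]; exact x.2⟩
        left_inv := fun x => rfl
        right_inv := fun x => rfl }
  have hcc : ∀ s : L, orderOf s = 2 → Nat.card (centralizer ({s} : Set L)) = Nat.card (centralizer ({t'} : Set L)) := by
    intro s hs
    obtain ⟨g, hg⟩ := isConj_iff.1 (hone (t' : G) (s : G) (by rw [Subgroup.orderOf_coe]; exact hot)
      (by rw [Subgroup.orderOf_coe]; exact hs))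
    have h1 : (MulAut.conjNormal g : MulAut L) t' = s := by
      apply Subtype.ext
      rw [MulAut.conjNormal_apply]; exact hg
    have h2 := card_centralizer_equiv (MulAut.conjNormal g : L ≃* L) t'
    rwa [h1] at h2
  have hle : Nat.card (centralizer ({t'} : Set L)) ≤ Nat.card (centralizer ({t} : Set G)) := by
    refine Nat.card_le_card_of_injective
      (fun x => (⟨(x : L), ?_⟩ : centralizer ({t} : Set G))) ?_
    · rw [mem_centralizer_singleton_iff]
      have := mem_centralizer_singleton_iff.1 x.2
      exact congrArg (Subtype.val) this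
    · intro x y hxy
      have := congrArg Subtype.val hxy
      exact Subtype.ext (Subtype.ext this)
  rw [hbij]
  refine lt_of_lt_of_le ?_ (Nat.pow_le_pow_left hle 2)
  by_cases h1 : OneC L
  · have h2 := hL h1 t' hot
    rw [← card_mul_of_one h1 hot, pow_succ] at h2
    exact lt_of_mul_lt_mul_right h2 (Nat.zero_le _)
  · unfold OneC at h1
    push Not at h1
    obtain ⟨s, u, hs, hu, hnc⟩ := h1
    exact card_inv_lt hcc hs hu hnc

/-- an abelian normal subgroup of even order -/
theorem cube_of_abelian (hone : OneC G) (A : Subgroup G) [A.Normal] (he : Even (Nat.card A))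
    (hab : ∀ a ∈ A, ∀ b ∈ A, a * b = b * a) : Cube G := by
  intro t ht
  apply cube_of_card_inv hone ht
  have htA := inv_mem_of_one hone A he ht
  have h1 : Nat.card {x : G // orderOf x = 2} ≤ Nat.card A :=
    Nat.card_le_card_of_injective (fun x => (⟨x.1, inv_mem_of_one hone A he x.2⟩ : A))
      (fun x y hxy => by
        have := congrArg Subtype.val hxy
        exact Subtype.ext this)
  have h2 : Nat.card A ≤ Nat.card (centralizer ({t} : Set G)) := by
    refine Subgroup.card_le_of_le ?_
    intro a ha
    rw [mem_centralizer_singleton_iff]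
    exact hab a ha t htA
  have h3 : 1 < Nat.card (centralizer ({t} : Set G)) := by
    have : Nontrivial A := ⟨⟨⟨t, htA⟩, 1, fun h => one_not_inv ht (congrArg Subtype.val h)⟩⟩
    exact lt_of_lt_of_le (Finite.one_lt_card) h2
  calc _ ≤ Nat.card (centralizer ({t} : Set G)) := h1.trans h2
    _ < _ := by nlinarith only [h3]

end frattini

/-! ### The structure of a group with one class of involutions and trivial odd core -/

section structure_

variable {G : Type*} [Group G] [Finite G]

/-- A group with one class of involutions, `O(G) = 1`: a normal abelian subgroup of even order, or a normal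
non-abelian simple subgroup of even order. -/
theorem exists_normal (hone : OneC G) (hO : pPrimeCore 2 G = ⊥) (he : Even (Nat.card G)) :
    (∃ A : Subgroup G, A.Normal ∧ Even (Nat.card A) ∧ ∀ a ∈ A, ∀ b ∈ A, a * b = b * a) ∨
    ∃ L : Subgroup G, L.Normal ∧ IsSimpleGroup L ∧ ¬ IsMulCommutative L ∧ Even (Nat.card L) := by
  have hF := SignalizersComponents.ComponentExists.fittingSubgroup_normal G
  by_cases hb : fittingSubgroup G = ⊥
  · right
    have hns : ¬ Group.IsSolvable (⊤ : Subgroup G) := by
      intro hs
      have h1 := SignalizersComponents.ComponentExists.le_fitting_of_isSubnormal_of_isSolvable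
        (N := (⊤ : Subgroup G)) Subgroup.IsSubnormal.top hs (by rw [hb]; intro x _; simp only [mem_centralizer_iff, _root_.Subgroup.coe_bot, _root_.Set.mem_singleton_iff, _root_.forall_eq, _root_.one_mul, _root_.mul_one])
      rw [hb] at h1
      obtain ⟨t, ht⟩ := exists_inv_of_even he
      exact one_not_inv ht (by simpa using h1 (mem_top t))
    obtain ⟨K, hK, -⟩ := SignalizersComponents.ComponentExists.exists_isComponent_le
      (C := (⊤ : Subgroup G)) Subgroup.IsSubnormal.top hns (by rw [hb]; intro x _; simp only [mem_centralizer_iff, _root_.Subgroup.coe_bot, _root_.Set.mem_singleton_iff, _root_.forall_eq, _root_.one_mul, _root_.mul_one])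
    -- the centre is trivial
    have hZ : center K = ⊥ := by
      have h1 : ((center K).map K.subtype).IsSubnormal :=
        (Subgroup.Normal.isSubnormal (inferInstance : (center K).Normal)).trans' hK.1
      have h2 : Group.IsSolvable ((center K).map K.subtype) := by
        have : Group.IsSolvable (center K) := Group.isSolvable_of_comm
          (fun a b => Subtype.ext (mem_center_iff.1 b.2 a))
        exact Group.isSolvable_of_surjective (f := ((center K).equivMapOfInjective K.subtype K.subtype_injective).toMonoidHom)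
          ((center K).equivMapOfInjective K.subtype K.subtype_injective).surjective
      have h3 := SignalizersComponents.ComponentExists.le_fitting_of_isSubnormal_of_isSolvable
        h1 h2 (by rw [hb]; intro x _; simp only [mem_centralizer_iff, _root_.Subgroup.coe_bot, _root_.Set.mem_singleton_iff, _root_.forall_eq, _root_.one_mul, _root_.mul_one])
      rw [hb, le_bot_iff, Subgroup.map_eq_bot_iff_of_injective _ K.subtype_injective] at h3
      exact h3
    have hsimple : IsSimpleGroup K := by
      have := SignalizersComponents.Components.quasisimple_nontrivial hK.2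
      have h1 := hK.2.2
      have e : K ⧸ center K ≃* K :=
        (QuotientGroup.quotientMulEquivOfEq hZ).trans QuotientGroup.quotientBot
      exact IsSimpleGroup.isSimpleGroup_of_surjective e.toMonoidHom e.surjective
    have hnc := SignalizersComponents.Components.quasisimple_not_isMulCommutative hK.2
    have hzero : ∀ x ∈ K, (∀ y ∈ K, x * y = y * x) → x = 1 := by
      intro x hx hy
      have h1 : (⟨x, hx⟩ : K) ∈ center K := by
        rw [mem_center_iff]
        intro y
        exact Subtype.ext (hy y y.2).symm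
      rw [hZ, mem_bot] at h1
      exact congrArg Subtype.val h1
    have hev : Even (Nat.card K) := by
      by_contra hodd
      rw [Nat.not_even_iff_odd] at hodd
      have h1 := SignalizersComponents.CompBasic.subnormal_coprime_le_pPrimeCore (p := 2) hK.1
        (Nat.coprime_two_right.2 hodd)
      rw [hO, le_bot_iff] at h1
      have h2 := SignalizersComponents.Components.quasisimple_nontrivial hK.2
      rw [Subgroup.nontrivial_iff_ne_bot] at h2
      exact h2 h1
    refine ⟨K, ?_, hsimple, hnc, hev⟩
    -- distinct conjugates commute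
    have hcomm : ∀ g : G, K.map (MulAut.conj g).toMonoidHom = K ∨
        ∀ x ∈ K.map (MulAut.conj g).toMonoidHom, ∀ y ∈ K, x * y = y * x := by
      intro g
      have hg := SignalizersComponents.Components.isComponent_conj g hK
      rcases SignalizersComponents.Components.component_le_or_commutator_eq_bot hK hg.1 with h | h
      · left
        refine (Subgroup.eq_of_le_of_card_ge h ?_).symm
        rw [Subgroup.card_map_of_injective (MulAut.conj g).injective]
      · right
        rw [commutator_eq_bot_iff_le_centralizer] at h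
        intro x hx y hy
        exact (mem_centralizer_iff.1 (h hy) x hx)
    obtain ⟨s, hs⟩ := exists_inv_of_even hev
    have hs' : orderOf (s : G) = 2 := by rw [Subgroup.orderOf_coe]; exact hs
    have hnorm : ∀ g : G, K.map (MulAut.conj g).toMonoidHom = K := by
      intro g
      rcases hcomm g with h | h
      · exact h
      · exfalso
        set s₁ : G := g * s * g⁻¹ with hs₁
        have hm : s₁ ∈ K.map (MulAut.conj g).toMonoidHom := ⟨s, s.2, rfl⟩
        have hc := h s₁ hm s s.2
        have hs₁2 : s₁ * s₁ = 1 := by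
          have := inv_sq hs'
          calc s₁ * s₁ = g * (s * s) * g⁻¹ := by rw [hs₁]; group
            _ = 1 := by rw [this]; group
        have hne : (s : G) * s₁ ≠ 1 := by
          intro e
          have e1 : s₁ = s := by
            calc s₁ = (s : G)⁻¹ * (s * s₁) := by group
              _ = (s : G)⁻¹ := by rw [e, mul_one]
              _ = s := inv_eq_of_mul_eq_one_left (inv_sq hs')
          have e2 := hzero s s.2 (fun y hy => by rw [← e1]; exact h s₁ hm y hy)
          exact one_not_inv hs' e2
        have ho : orderOf ((s : G) * s₁) = 2 := by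
          apply inv_of hne
          calc (s : G) * s₁ * (s * s₁) = s * (s₁ * s) * s₁ := by group
            _ = s * (s * s₁) * s₁ := by rw [hc]
            _ = (s * s) * (s₁ * s₁) := by group
            _ = 1 := by rw [inv_sq hs', hs₁2, mul_one]
        obtain ⟨k, hk⟩ := isConj_iff.1 (hone (s : G) (s * s₁) hs' ho)
        have hmk : (s : G) * s₁ ∈ K.map (MulAut.conj k).toMonoidHom := ⟨s, s.2, hk⟩
        rcases hcomm k with h2 | h2
        · rw [h2] at hmk
          have h3 : s₁ ∈ K := by
            have := K.mul_mem (K.inv_mem s.2) hmk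
            simpa using this
          have h4 := hzero s₁ h3 (fun y hy => h s₁ hm y hy)
          have h5 : (s : G) = 1 := by
            have : g * (s : G) * g⁻¹ = 1 := h4
            rw [mul_inv_eq_one] at this
            simpa using this
          exact one_not_inv hs' h5
        · have h3 := hzero s s.2 (fun y hy => by
            have e1 := h2 _ hmk y hy
            have e2 := h s₁ hm y hy
            have e3 : (s : G) = (s * s₁) * s₁⁻¹ := by group
            have e4 : s₁⁻¹ * y = y * s₁⁻¹ := by
              rw [inv_mul_eq_iff_eq_mul, ← mul_assoc, e2, mul_inv_cancel_right]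
            rw [e3]
            calc (s : G) * s₁ * s₁⁻¹ * y = (s * s₁) * (s₁⁻¹ * y) := by group
              _ = (s * s₁) * y * s₁⁻¹ := by rw [e4]; group
              _ = y * (s * s₁ * s₁⁻¹) := by rw [e1]; group)
          exact one_not_inv hs' h3
    constructor
    intro n hn g
    have := hnorm g
    rw [← this]
    exact ⟨n, hn, rfl⟩
  · left
    have hnil := Cfsg.Agent.Lib.Cores.fittingSubgroup_isNilpotent (G := G)
    set F := fittingSubgroup G with hFdef
    have hnt : Nontrivial F := (Subgroup.nontrivial_iff_ne_bot F).2 hb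
    have hZ : center F ≠ ⊥ := by
      have := Cfsg.Agent.Lib.NormalAbelian.normal_inf_center_ne_bot (⊤ : Subgroup F) top_ne_bot
      rwa [top_inf_eq] at this
    have hn : ((center F).map F.subtype).Normal := ConjAct.normal_of_characteristic_of_normal
    have hab : ∀ a ∈ (center F).map F.subtype, ∀ b ∈ (center F).map F.subtype, a * b = b * a := by
      rintro _ ⟨a, ha, rfl⟩ _ ⟨b, hb, rfl⟩
      exact (congrArg Subtype.val (mem_center_iff.1 ha b)).symm
    refine ⟨(center F).map F.subtype, hn, ?_, hab⟩
    by_contra hodd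
    rw [Nat.not_even_iff_odd] at hodd
    have h1 := Cfsg.Agent.Lib.Cores.le_pPrimeCore (p := 2) hn (Nat.coprime_two_right.2 hodd)
    rw [hO, le_bot_iff, Subgroup.map_eq_bot_iff_of_injective _ F.subtype_injective] at h1
    exact hZ h1

/-- the case of trivial odd core -/
theorem cube_of_core (hone : OneC G) (hO : pPrimeCore 2 G = ⊥) (he : Even (Nat.card G))
    (hS : ∀ L : Subgroup G, L.Normal → IsSimpleGroup L → ¬ IsMulCommutative L → Even (Nat.card L) → OneC L → Cube L) :
    Cube G := by
  rcases exists_normal hone hO he with ⟨A, hA, hA2, hab⟩ | ⟨L, hL, hLs, hLn, hLe⟩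
  · exact cube_of_abelian hone A hA2 hab
  · exact cube_of_normal hone L hLe (hS L hL hLs hLn hLe)

end structure_

/-! ### Dividing by the odd core -/

section core

universe u

variable {G : Type u} [Group G] [Finite G]

omit [Finite G] in
theorem exists_lift (N : Subgroup G) [N.Normal] (hN : Odd (Nat.card N)) (y : G ⧸ N) (hy : orderOf y = 2) :
    ∃ x : G, orderOf x = 2 ∧ (QuotientGroup.mk x : G ⧸ N) = y := by
  obtain ⟨x, rfl⟩ := QuotientGroup.mk_surjective y
  have h1 : x * x ∈ N := by
    have := inv_sq hy
    rw [← QuotientGroup.mk_mul, QuotientGroup.eq_one_iff] at this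
    exact this
  have h2 : (x * x) ^ Nat.card N = 1 := by
    have := pow_card_eq_one' (x := (⟨x * x, h1⟩ : N))
    exact congrArg Subtype.val this
  have h3 : (QuotientGroup.mk (x ^ Nat.card N) : G ⧸ N) = QuotientGroup.mk x := by
    obtain ⟨k, hk⟩ := hN
    rw [QuotientGroup.mk_pow, hk, pow_succ, pow_mul, sq, inv_sq hy, one_pow, one_mul]
  refine ⟨x ^ Nat.card N, inv_of ?_ ?_, h3⟩
  · intro e
    rw [e] at h3
    exact one_not_inv hy h3.symm
  · rw [← h2, ← sq, ← sq, ← pow_mul, ← pow_mul, mul_comm]

omit [Finite G] in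
theorem one_quotient (hone : OneC G) (N : Subgroup G) [N.Normal] (hN : Odd (Nat.card N)) : OneC (G ⧸ N) := by
  intro s t hs ht
  obtain ⟨x, hx, rfl⟩ := exists_lift N hN s hs
  obtain ⟨y, hy, rfl⟩ := exists_lift N hN t ht
  obtain ⟨g, hg⟩ := isConj_iff.1 (hone x y hx hy)
  exact isConj_iff.2 ⟨QuotientGroup.mk g, by rw [← hg]; rfl⟩

theorem card_centralizer_quotient (N : Subgroup G) [N.Normal] (hN : Odd (Nat.card N)) {t : G} (ht : orderOf t = 2) :
    Nat.card (centralizer ({t} : Set G)) = Nat.card (centralizer ({(QuotientGroup.mk t : G ⧸ N)} : Set (G ⧸ N))) *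
      Nat.card (N ⊓ centralizer ({t} : Set G) : Subgroup G) := by
  have : Fact (Nat.Prime 2) := ⟨Nat.prime_two⟩
  have hp : IsPGroup 2 (zpowers t) := IsPGroup.of_card (n := 1) (by rw [Nat.card_zpowers, ht, pow_one])
  have h1 := Cfsg.Agent.PLocal.CoprimeLift.map_centralizer_mk (p := 2) N (zpowers t) (Nat.coprime_two_right.2 hN) hp
  rw [MonoidHom.map_zpowers, zpowers_eq_closure, zpowers_eq_closure, centralizer_closure,
    centralizer_closure] at h1
  change _ = centralizer ({(QuotientGroup.mk t : G ⧸ N)} : Set (G ⧸ N)) at h1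
  rw [← h1]
  set C := centralizer ({t} : Set G)
  have h2 := Subgroup.index_ker ((QuotientGroup.mk' N).comp C.subtype)
  have h3 : ((QuotientGroup.mk' N).comp C.subtype).range = C.map (QuotientGroup.mk' N) := by
    rw [MonoidHom.range_comp, Subgroup.range_subtype]
  have h4 : ((QuotientGroup.mk' N).comp C.subtype).ker = N.subgroupOf C := by
    rw [← MonoidHom.comap_ker, QuotientGroup.ker_mk']; rfl
  rw [h3, h4] at h2
  have h5 : Nat.card (N ⊓ C : Subgroup G) = Nat.card (N.subgroupOf C) := by
    rw [← Subgroup.inf_subgroupOf_right]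
    exact (Nat.card_congr (Subgroup.subgroupOfEquivOfLe inf_le_right).toEquiv).symm
  rw [h5, ← h2, mul_comm]
  exact (Subgroup.card_mul_index _).symm

omit [Finite G] in
theorem card_inf_conj (N : Subgroup G) [N.Normal] {s t : G} (h : IsConj s t) :
    Nat.card (N ⊓ centralizer ({t} : Set G) : Subgroup G) = Nat.card (N ⊓ centralizer ({s} : Set G) : Subgroup G) := by
  obtain ⟨g, hg⟩ := isConj_iff.1 h
  have h1 : (N ⊓ centralizer ({t} : Set G) : Subgroup G) =
      (N ⊓ centralizer ({s} : Set G) : Subgroup G).map (MulAut.conj g).toMonoidHom := by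
    ext x
    constructor
    · rintro ⟨h1, h2⟩
      refine ⟨g⁻¹ * x * g, ⟨?_, ?_⟩, ?_⟩
      · have := Normal.conj_mem (inferInstance : N.Normal) x h1 g⁻¹
        rwa [inv_inv] at this
      · replace h2 := mem_centralizer_singleton_iff.1 (show x ∈ centralizer ({t} : Set G) from h2)
        refine mem_centralizer_singleton_iff.2 ?_
        rw [← hg] at h2
        calc g⁻¹ * x * g * s = g⁻¹ * (x * (g * s * g⁻¹)) * g := by group
          _ = g⁻¹ * (g * s * g⁻¹ * x) * g := by rw [h2]
          _ = s * (g⁻¹ * x * g) := by group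
      · change g * (g⁻¹ * x * g) * g⁻¹ = x
        group
    · rintro ⟨y, ⟨h1, h2⟩, rfl⟩
      refine ⟨Normal.conj_mem inferInstance _ h1 _, ?_⟩
      replace h2 := mem_centralizer_singleton_iff.1 (show y ∈ centralizer ({s} : Set G) from h2)
      refine mem_centralizer_singleton_iff.2 ?_
      change g * y * g⁻¹ * t = t * (g * y * g⁻¹)
      rw [← hg]
      calc g * y * g⁻¹ * (g * s * g⁻¹) = g * (y * s) * g⁻¹ := by group
        _ = g * (s * y) * g⁻¹ := by rw [h2]
        _ = _ := by group
  rw [h1, Subgroup.card_map_of_injective (MulAut.conj g).injective]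

/-- Two commuting involutions. -/
theorem exists_four (h : ¬ PRankLE 2 1 G) :
    ∃ a b : G, orderOf a = 2 ∧ orderOf b = 2 ∧ a * b = b * a ∧ orderOf (a * b) = 2 := by
  unfold PRankLE at h
  push Not at h
  obtain ⟨A, hA, hA2, hc⟩ := h
  rw [pow_one] at hc
  have := Fintype.ofFinite A
  rw [Nat.card_eq_fintype_card] at hc
  classical
  obtain ⟨x, y, z, hxy, hxz, hyz⟩ := Fintype.two_lt_card_iff.1 hc
  -- two non-trivial elements
  have key : ∀ u v : A, u ≠ 1 → v ≠ 1 → u ≠ v → ∃ a b : G, orderOf a = 2 ∧ orderOf b = 2 ∧ a * b = b * a ∧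
      orderOf (a * b) = 2 := by
    intro u v hu hv huv
    have h1 : ∀ w : A, (w : G) * w = 1 := fun w => by rw [← sq]; exact hA2 w w.2
    have hcom : (u : G) * v = v * u := congrArg Subtype.val (mul_comm' u v)
    refine ⟨u, v, inv_of (fun e => hu (Subtype.ext e)) (h1 u), inv_of (fun e => hv (Subtype.ext e)) (h1 v), hcom, ?_⟩
    apply inv_of
    · intro e
      apply huv
      apply Subtype.ext
      have h2 : (v : G)⁻¹ = v := inv_eq_of_mul_eq_one_left (h1 v)
      rw [← h2]
      exact eq_inv_of_mul_eq_one_left e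
    · exact h1 (u * v)
  by_cases hx : x = 1
  · exact key y z (by rw [← hx]; exact hxy.symm) (by rw [← hx]; exact hxz.symm) hyz
  · by_cases hy : y = 1
    · exact key x z hx (by rw [← hy]; exact hyz.symm) hxz
    · exact key x y hx hy hxy

/-- **The reduction.** -/
theorem cube_of_one_class (hone : OneC G) (hr : ¬ PRankLE 2 1 G)
    (hS : ∀ (L : Type u) [Group L] [Finite L] [IsSimpleGroup L], ¬ IsMulCommutative L → Even (Nat.card L) →
      OneC L → Cube L) : Cube G := by
  intro t ht
  set N := pPrimeCore 2 G with hNdef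
  have hNn : N.Normal := Cfsg.Agent.Lib.Cores.pPrimeCore_normal 2
  have hN : Odd (Nat.card N) := Nat.coprime_two_right.1 (Cfsg.Agent.Lib.Cores.pPrimeCore_coprime 2)
  -- the order of `N`
  obtain ⟨a, b, ha, hb, hab, habo⟩ := exists_four hr
  have hcn : Nat.card N ≤ Nat.card (N ⊓ centralizer ({t} : Set G) : Subgroup G) ^ 3 := by
    have h1 := Cfsg.Agent.Lib.KleinOrder.card_klein N hN (inv_sq ha) (inv_sq hb) hab
      (fun k hk => hNn.conj_mem k hk a) (fun k hk => hNn.conj_mem k hk b)
    rw [card_inf_conj N (hone t a ht ha), card_inf_conj N (hone t b ht hb), card_inf_conj N (hone t _ ht habo)] at h1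
    have h2 : 0 < Nat.card (N ⊓ centralizer {a} ⊓ centralizer {b} : Subgroup G) ^ 2 := by
      have : 0 < Nat.card (N ⊓ centralizer {a} ⊓ centralizer {b} : Subgroup G) := Nat.card_pos
      positivity
    calc Nat.card N = Nat.card N * 1 := (mul_one _).symm
      _ ≤ Nat.card N * Nat.card (N ⊓ centralizer {a} ⊓ centralizer {b} : Subgroup G) ^ 2 :=
          Nat.mul_le_mul_left _ h2
      _ = _ := h1
      _ = _ := by ring
  -- the quotient
  have hq : orderOf (QuotientGroup.mk t : G ⧸ N) = 2 := by
    apply inv_of
    · rw [Ne, QuotientGroup.eq_one_iff]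
      intro h
      have h1 := _root_.orderOf_dvd_natCard (⟨t, h⟩ : N)
      rw [Subgroup.orderOf_mk, ht] at h1
      exact (Nat.not_even_iff_odd.2 hN) (even_iff_two_dvd.2 h1)
    · rw [← QuotientGroup.mk_mul, inv_sq ht, QuotientGroup.mk_one]
  have hcq : Cube (G ⧸ N) := by
    apply cube_of_core (one_quotient hone N hN) (Cfsg.Agent.Lib.Cores.pPrimeCore_quotient_pPrimeCore 2)
    · rw [even_iff_two_dvd, ← hq]
      exact _root_.orderOf_dvd_natCard _
    · intro L _ hL hLn hLe hLo
      exact hS L hLn hLe hLo
  have h3 := hcq _ hq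
  rw [card_centralizer_quotient N hN ht, mul_pow]
  calc Nat.card G = Nat.card (G ⧸ N) * Nat.card N := Subgroup.card_eq_card_quotient_mul_card_subgroup N
    _ ≤ Nat.card (G ⧸ N) * Nat.card (N ⊓ centralizer ({t} : Set G) : Subgroup G) ^ 3 := Nat.mul_le_mul_left _ hcn
    _ < _ := Nat.mul_lt_mul_of_pos_right h3 (by
        have : 0 < Nat.card (N ⊓ centralizer ({t} : Set G) : Subgroup G) := Nat.card_pos
        positivity)

/-- **The theorem**, given the simple groups with one class of involutions. -/
theorem main (hr : ¬ PRankLE 2 1 G)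
    (hS : ∀ (L : Type u) [Group L] [Finite L] [IsSimpleGroup L], ¬ IsMulCommutative L → Even (Nat.card L) →
      OneC L → Cube L) :
    ∃ t : G, orderOf t = 2 ∧ Nat.card G < Nat.card (centralizer ({t} : Set G)) ^ 3 := by
  obtain ⟨a, b, ha, -⟩ := exists_four hr
  by_cases hone : OneC G
  · exact ⟨a, ha, cube_of_one_class hone hr hS a ha⟩
  · -- the involution with the largest centralizer
    obtain ⟨m, hm, hmax⟩ := Set.exists_max_image {x : G | orderOf x = 2}
      (fun x => Nat.card (centralizer ({x} : Set G))) (Set.toFinite _) ⟨a, ha⟩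
    have h1 : ∃ s : G, orderOf s = 2 ∧ ¬ IsConj s m := by
      by_contra hcon
      push Not at hcon
      apply hone
      intro x y hx hy
      exact (hcon x hx).trans (hcon y hy).symm
    obtain ⟨s, hs, hsm⟩ := h1
    exact ⟨m, hm, Cfsg.Agent.S0230.result s m hs hm hsm (fun u hu => hmax u hu)⟩

end core

end Cfsg.Agent.H131.OneClass
end

-- part: H131/Tools
section
/-!
# Ways to show the cube bound (helper131)

* `cube_of_hom`  : a group `H` mapping to `C_L(t)` with small kernel;
* `cube_of_dvd`  : the order of the centralizers of the involutions is a multiple of `m`, `|L| < m³`;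
* `cube_of_sylow` : `|L| < |L|₂³`;
* `dvd_two_part`, `dvd_of_comm` : divisors of `|C_L(t)|`.
-/

set_option autoImplicit false

namespace Cfsg.Agent.H131.Tools

open Subgroup Cfsg.Agent.H131.OneClass

variable {L : Type*} [Group L] [Finite L]

theorem cube_of_dvd (h1 : OneC L) {m : ℕ} (hm : ∃ t : L, orderOf t = 2 ∧ m ∣ Nat.card (centralizer ({t} : Set L)))
    (h : Nat.card L < m ^ 3) : Cube L := by
  obtain ⟨t, ht, hm⟩ := hm
  exact cube_of_one h1 ht (lt_of_lt_of_le h (Nat.pow_le_pow_left (Nat.le_of_dvd Nat.card_pos hm) 3))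

theorem cube_of_le (h1 : OneC L) {m : ℕ} (hm : ∃ t : L, orderOf t = 2 ∧ m ≤ Nat.card (centralizer ({t} : Set L)))
    (h : Nat.card L < m ^ 3) : Cube L := by
  obtain ⟨t, ht, hm⟩ := hm
  exact cube_of_one h1 ht (lt_of_lt_of_le h (Nat.pow_le_pow_left hm 3))

theorem card_le_of_sub {t : L} (H : Subgroup L) (hH : ∀ h ∈ H, h * t = t * h) :
    Nat.card H ≤ Nat.card (centralizer ({t} : Set L)) :=
  Subgroup.card_le_of_le fun h hh => mem_centralizer_singleton_iff.2 (hH h hh)

omit [Finite L] in
theorem card_dvd_of_sub {t : L} (H : Subgroup L) (hH : ∀ h ∈ H, h * t = t * h) :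
    Nat.card H ∣ Nat.card (centralizer ({t} : Set L)) :=
  Subgroup.card_dvd_of_le fun h hh => mem_centralizer_singleton_iff.2 (hH h hh)

/-- a subgroup centralizing an involution -/
theorem cube_of_sub (h1 : OneC L) {t : L} (ht : orderOf t = 2) (H : Subgroup L) (hH : ∀ h ∈ H, h * t = t * h)
    (h : Nat.card L < Nat.card H ^ 3) : Cube L :=
  cube_of_le h1 ⟨t, ht, card_le_of_sub H hH⟩ h

/-- a group mapping to the centralizer of an involution, with kernel of order at most `d` -/
theorem cube_of_hom (h1 : OneC L) {t : L} (ht : orderOf t = 2) {H : Type*} [Group H] [Finite H] (f : H →* L)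
    (hf : ∀ h, f h * t = t * f h) {d : ℕ} (hd : Nat.card f.ker ≤ d)
    (h : Nat.card L * d ^ 3 < Nat.card H ^ 3) : Cube L := by
  apply cube_of_sub h1 ht f.range
  · rintro _ ⟨x, rfl⟩
    exact hf x
  · have h2 : Nat.card H = Nat.card f.ker * Nat.card f.range := by
      rw [← Subgroup.index_ker, Subgroup.card_mul_index]
    rw [h2, mul_pow] at h
    have h3 : Nat.card f.ker ^ 3 * Nat.card f.range ^ 3 ≤ d ^ 3 * Nat.card f.range ^ 3 :=
      Nat.mul_le_mul_right _ (Nat.pow_le_pow_left hd 3)
    have h4 := lt_of_lt_of_le h h3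
    rw [mul_comm] at h4
    exact lt_of_mul_lt_mul_left h4 (Nat.zero_le _)

/-- two commuting groups, with one group embedded and containing the involution -/
theorem cube_of_two_hom (h1 : OneC L) {t : L} (ht : orderOf t = 2) {H K : Type*} [Group H] [Finite H] [Group K] [Finite K]
    (f : H →* L) (g : K →* L) (hfg : ∀ x y, f x * g y = g y * f x)
    (hf : ∀ h, f h * t = t * f h) (hg : ∀ h, g h * t = t * g h) {d : ℕ}
    (hd : Nat.card {p : H × K // f p.1 * g p.2 = 1} ≤ d)
    (h : Nat.card L * d ^ 3 < (Nat.card H * Nat.card K) ^ 3) : Cube L := by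
  let φ : H × K →* L := MonoidHom.noncommCoprod f g (fun x y => hfg x y)
  refine cube_of_hom h1 ht φ ?_ (d := d) ?_ ?_
  · rintro ⟨x, y⟩
    change f x * g y * t = t * (f x * g y)
    rw [mul_assoc, hg, ← mul_assoc, hf, mul_assoc]
  · refine le_trans (le_of_eq ?_) hd
    exact Nat.card_congr (Equiv.subtypeEquivRight fun p => Iff.rfl)
  · rwa [Nat.card_prod]

/-- the order of the centralizer of an involution is divisible by the 2-part of the order -/
theorem exists_two_part (he : Even (Nat.card L)) :
    ∃ t : L, orderOf t = 2 ∧ ordProj[2] (Nat.card L) ∣ Nat.card (centralizer ({t} : Set L)) := by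
  have : Fact (Nat.Prime 2) := ⟨Nat.prime_two⟩
  obtain ⟨S⟩ : Nonempty (Sylow 2 L) := inferInstance
  have hS := S.card_eq_multiplicity
  have h2 : 2 ∣ Nat.card (S : Subgroup L) := by
    rw [hS]
    have h3 : (Nat.card L).factorization 2 ≠ 0 := by
      have := (Nat.prime_two.dvd_iff_one_le_factorization Nat.card_pos.ne').1 he.two_dvd
      omega
    exact dvd_pow_self 2 h3
  have hnt : Nontrivial (S : Subgroup L) := by
    rw [← Finite.one_lt_card_iff_nontrivial]
    exact lt_of_lt_of_le one_lt_two (Nat.le_of_dvd Nat.card_pos h2)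
  have hc := S.isPGroup'.center_nontrivial
  have hcp : IsPGroup 2 (center (S : Subgroup L)) := S.isPGroup'.to_subgroup _
  have h4 : 2 ∣ Nat.card (center (S : Subgroup L)) := by
    obtain ⟨n, hn⟩ := IsPGroup.iff_card.1 hcp
    rw [hn]
    apply dvd_pow_self
    rintro rfl
    rw [pow_zero] at hn
    have := Finite.one_lt_card_iff_nontrivial.2 hc
    omega
  obtain ⟨z, hz⟩ := exists_prime_orderOf_dvd_card' 2 h4
  refine ⟨((z : (S : Subgroup L)) : L), ?_, ?_⟩
  · rw [Subgroup.orderOf_coe, Subgroup.orderOf_coe]; exact hz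
  · rw [← hS]
    apply card_dvd_of_sub
    intro h hh
    exact congrArg Subtype.val (mem_center_iff.1 z.2 ⟨h, hh⟩)

theorem dvd_two_part (h1 : OneC L) (he : Even (Nat.card L)) {t : L} (ht : orderOf t = 2) :
    ordProj[2] (Nat.card L) ∣ Nat.card (centralizer ({t} : Set L)) := by
  obtain ⟨s, hs, h⟩ := exists_two_part he
  rwa [card_centralizer_conj (h1 s t hs ht)]

/-- **2-central involutions.** -/
theorem cube_of_sylow (h1 : OneC L) (he : Even (Nat.card L)) (h : Nat.card L < (ordProj[2] (Nat.card L)) ^ 3) :
    Cube L :=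
  cube_of_dvd h1 (exists_two_part he) h

/-- an element of order `r` commuting with an involution -/
theorem dvd_of_comm (h1 : OneC L) {s x : L} (hs : orderOf s = 2) (hx : x * s = s * x) {t : L} (ht : orderOf t = 2) :
    orderOf x ∣ Nat.card (centralizer ({t} : Set L)) := by
  rw [card_centralizer_conj (h1 s t hs ht)]
  have h2 : x ∈ centralizer ({s} : Set L) := mem_centralizer_singleton_iff.2 hx
  have h3 := _root_.orderOf_dvd_natCard (⟨x, h2⟩ : centralizer ({s} : Set L))
  rwa [Subgroup.orderOf_mk] at h3

end Cfsg.Agent.H131.Tools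

namespace Cfsg.Agent.H131.Tools

open Subgroup Cfsg.Agent.H131.OneClass

variable {L : Type*} [Group L] [Finite L]

theorem pow_dvd_two_part {N k : ℕ} (hN : N ≠ 0) (h : 2 ^ k ∣ N) : 2 ^ k ∣ ordProj[2] N :=
  Nat.pow_dvd_pow _ ((Nat.prime_two.pow_dvd_iff_le_factorization hN).1 h)

/-- the 2-part -/
theorem cube_of_pow (h1 : OneC L) {k : ℕ} (hk0 : k ≠ 0) (hk : 2 ^ k ∣ Nat.card L) (h : Nat.card L < (2 ^ k) ^ 3) :
    Cube L := by
  have he : Even (Nat.card L) := even_iff_two_dvd.2 ((dvd_pow_self 2 hk0).trans hk)
  obtain ⟨t, ht, h2⟩ := exists_two_part he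
  exact cube_of_dvd h1 ⟨t, ht, (pow_dvd_two_part Nat.card_pos.ne' hk).trans h2⟩ h

/-- the 2-part and an odd number dividing the order of an element commuting with an involution -/
theorem cube_of_pow_mul (h1 : OneC L) {k m : ℕ} (hm : Odd m) (hk : 2 ^ k ∣ Nat.card L) {t : L} (ht : orderOf t = 2)
    (hmt : m ∣ Nat.card (centralizer ({t} : Set L))) (h : Nat.card L < (2 ^ k * m) ^ 3) : Cube L := by
  have he : Even (Nat.card L) := by rw [even_iff_two_dvd, ← ht]; exact _root_.orderOf_dvd_natCard t
  refine cube_of_dvd h1 ⟨t, ht, ?_⟩ h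
  apply Nat.Coprime.mul_dvd_of_dvd_of_dvd
  · exact Nat.Coprime.pow_left _ (Nat.coprime_two_left.2 hm)
  · exact (pow_dvd_two_part Nat.card_pos.ne' hk).trans (dvd_two_part h1 he ht)
  · exact hmt

end Cfsg.Agent.H131.Tools
end
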